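import Cfsg.Prelude.Def_Sporadic_a
import Mathlib

set_option autoImplicit false

namespace Cfsg.Agent.Lib.Helper8

open Cfsg

/-- plain dot product of binary words -/
def gdot (v w : GolayPt → ZMod 2) : ZMod 2 := ∑ i : GolayPt, v i * w i

theorem gdot_add_left (u v w : GolayPt → ZMod 2) : gdot (u + v) w = gdot u w + gdot v w := by
  simp [gdot, add_mul, Finset.sum_add_distrib]

theorem gdot_add_right (u v w : GolayPt → ZMod 2) : gdot u (v + w) = gdot u v + gdot u w := by
  simp [gdot, mul_add, Finset.sum_add_distrib]

theorem gdot_smul_left (a : ZMod 2) (v w : GolayPt → ZMod 2) : gdot (a • v) w = a * gdot v w := by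
  unfold gdot
  rw [Finset.mul_sum]
  exact Finset.sum_congr rfl fun i _ => by simp [mul_assoc]

theorem gdot_smul_right (a : ZMod 2) (v w : GolayPt → ZMod 2) : gdot v (a • w) = a * gdot v w := by
  unfold gdot
  rw [Finset.mul_sum]
  exact Finset.sum_congr rfl fun i _ => by simp [mul_left_comm]

theorem gdot_zero_left (w : GolayPt → ZMod 2) : gdot 0 w = 0 := by simp [gdot]
theorem gdot_zero_right (w : GolayPt → ZMod 2) : gdot w 0 = 0 := by simp [gdot]

set_option maxRecDepth 1000000 in
theorem qr_dot_qr : ∀ s t : ZMod 23, gdot (qrWord s) (qrWord t) = 0 := by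
  decide +kernel

set_option maxRecDepth 1000000 in
theorem qr_dot_one : ∀ s : ZMod 23, gdot (qrWord s) 1 = 0 := by
  decide +kernel

set_option maxRecDepth 1000000 in
theorem one_dot_qr : ∀ s : ZMod 23, gdot 1 (qrWord s) = 0 := by
  decide +kernel

set_option maxRecDepth 1000000 in
theorem one_dot_one : gdot 1 1 = 0 := by
  decide +kernel

/-- the length-24 code is self-orthogonal -/
theorem golay_orth {v w : GolayPt → ZMod 2} (hv : v ∈ golayCode) (hw : w ∈ golayCode) :
    gdot v w = 0 := by
  unfold golayCode at hv hw
  induction hv using Submodule.span_induction with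
  | mem x hx =>
    induction hw using Submodule.span_induction with
    | mem y hy =>
      rcases hx with ⟨s, rfl⟩ | hx <;> rcases hy with ⟨t, rfl⟩ | hy
      · exact qr_dot_qr s t
      · rw [Set.mem_singleton_iff.mp hy]; exact qr_dot_one s
      · rw [Set.mem_singleton_iff.mp hx]; exact one_dot_qr t
      · rw [Set.mem_singleton_iff.mp hx, Set.mem_singleton_iff.mp hy]; exact one_dot_one
    | zero => exact gdot_zero_right _
    | add y z _ _ hy hz => rw [gdot_add_right, hy, hz, add_zero]
    | smul a y _ hy => rw [gdot_smul_right, hy, mul_zero]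
  | zero => exact gdot_zero_left _
  | add y z _ _ hy hz => rw [gdot_add_left, hy, hz, add_zero]
  | smul a y _ hy => rw [gdot_smul_left, hy, mul_zero]

theorem zmod2_cases (a : ZMod 2) : a = 0 ∨ a = 1 := by
  revert a; decide

theorem card_inter_cast (v w : GolayPt → ZMod 2) :
    (((support₂ v ∩ support₂ w).card : ℕ) : ZMod 2) = gdot v w := by
  unfold gdot support₂
  rw [← Finset.filter_and, Finset.card_filter]
  push_cast
  apply Finset.sum_congr rfl
  intro i _
  rcases zmod2_cases (v i) with h1 | h1 <;> rcases zmod2_cases (w i) with h2 | h2 <;>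
    simp [h1, h2]

/-- Two words of the code meet evenly. -/
theorem golay_inter_even {c c' : Finset GolayPt}
    (hc : c ∈ supports (golayCode : Set (GolayPt → ZMod 2)))
    (hc' : c' ∈ supports (golayCode : Set (GolayPt → ZMod 2))) : Even (c ∩ c').card := by
  obtain ⟨v, hv, rfl⟩ := hc
  obtain ⟨w, hw, rfl⟩ := hc'
  have := card_inter_cast v w
  rw [golay_orth hv hw] at this
  rw [even_iff_two_dvd]
  exact (ZMod.natCast_eq_zero_iff _ 2).mp this

theorem support₂_add (v w : GolayPt → ZMod 2) :
    support₂ (v + w) = symmDiff (support₂ v) (support₂ w) := by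
  ext i
  simp only [support₂, Finset.mem_symmDiff, Finset.mem_filter, Finset.mem_univ, true_and,
    Pi.add_apply]
  rcases zmod2_cases (v i) with h1 | h1 <;> rcases zmod2_cases (w i) with h2 | h2 <;>
    simp [h1, h2]
  decide

theorem golay_symmDiff {c c' : Finset GolayPt}
    (hc : c ∈ supports (golayCode : Set (GolayPt → ZMod 2)))
    (hc' : c' ∈ supports (golayCode : Set (GolayPt → ZMod 2))) :
    symmDiff c c' ∈ supports (golayCode : Set (GolayPt → ZMod 2)) := by
  obtain ⟨v, hv, rfl⟩ := hc
  obtain ⟨w, hw, rfl⟩ := hc'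
  exact ⟨v + w, golayCode.add_mem hv hw, support₂_add v w⟩

theorem card_symmDiff_add {α : Type*} [DecidableEq α] (s t : Finset α) :
    (symmDiff s t).card + 2 * (s ∩ t).card = s.card + t.card := by
  have h1 : (symmDiff s t).card = (s \ t).card + (t \ s).card := by
    rw [symmDiff_def, Finset.sup_eq_union, Finset.card_union_of_disjoint]
    exact disjoint_sdiff_sdiff
  have h2 := Finset.card_sdiff_add_card_inter s t
  have h3 := Finset.card_sdiff_add_card_inter t s
  rw [Finset.inter_comm t s] at h3
  omega

set_option maxRecDepth 1000000 in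
theorem qr_card : ∀ s : ZMod 23, (support₂ (qrWord s)).card = 12 := by
  decide +kernel

set_option maxRecDepth 1000000 in
theorem one_card : (support₂ (1 : GolayPt → ZMod 2)).card = 24 := by
  decide +kernel

/-- the code is doubly even -/
theorem golay_four_dvd_word {v : GolayPt → ZMod 2} (hv : v ∈ golayCode) :
    4 ∣ (support₂ v).card := by
  have hv' := hv
  unfold golayCode at hv'
  induction hv' using Submodule.span_induction with
  | mem x hx =>
    rcases hx with ⟨s, rfl⟩ | hx
    · rw [qr_card]; decide
    · rw [Set.mem_singleton_iff.mp hx, one_card]; decide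
  | zero => simp [support₂]
  | add y z hy' hz' hy hz =>
    have hy1 : y ∈ golayCode := hy'
    have hz1 : z ∈ golayCode := hz'
    have h1 := hy hy1
    have h2 := hz hz1
    have h3 := card_symmDiff_add (support₂ y) (support₂ z)
    have h4 : Even (support₂ y ∩ support₂ z).card :=
      golay_inter_even ⟨y, hy1, rfl⟩ ⟨z, hz1, rfl⟩
    rw [support₂_add]
    obtain ⟨k, hk⟩ := h4
    omega
  | smul a y hy' hy =>
    have hy1 : y ∈ golayCode := hy'
    rcases zmod2_cases a with rfl | rfl
    · simp [support₂]
    · simpa using hy hy1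

theorem golay_four_dvd {c : Finset GolayPt}
    (hc : c ∈ supports (golayCode : Set (GolayPt → ZMod 2))) : 4 ∣ c.card := by
  obtain ⟨v, hv, rfl⟩ := hc
  exact golay_four_dvd_word hv

end Cfsg.Agent.Lib.Helper8
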